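import Groth.Agent.Etbc.H223.SepFin
import Groth.Agent.Sga4h.H929.Hyp

/-!
# Finiteness over a field, from `S3122`
-/

set_option autoImplicit false
universe u

open CategoryTheory CategoryTheory.Limits AlgebraicGeometry Opposite

namespace Groth.Agent.Sga4h.H929.HP.Fin

theorem finCons : Hyp.FinCons.{u} := by
  intro K _ X Y b _ _ f _ _ n hn F hF hk i
  exact Groth.Agent.S3122.result (Groth.Agent.Etbc.H223.SepFin.isRegular_spec K)
    (Groth.Agent.Etbc.H223.SepFin.dim_spec_le K) n (Hyp.isUnit_of_field hn (𝟙 _)) (f ≫ b) b f rfl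
    F hF hk i

end Groth.Agent.Sga4h.H929.HP.Fin
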