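import Groth.Agent.Sga4B.LineAff
import Groth.Agent.Sga4h.H929.Hyp

/-!
# Acyclicity of the affine line over an affine base
-/

set_option autoImplicit false
universe u

open CategoryTheory CategoryTheory.Limits AlgebraicGeometry Opposite

namespace Groth.Agent.Sga4h.H929.HP.Line

open Groth.Agent.Sga4B

/-- the isomorphism of `R[X]` with the polynomial ring on `ULift (Fin 1)` -/
noncomputable def e (R : Type u) [CommRing R] :
    MvPolynomial (ULift.{u} (Fin 1)) R ≃ₐ[R] Polynomial R :=
  MvPolynomial.uniqueAlgEquiv R (ULift.{u} (Fin 1))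

/-- the ring homomorphism `R[X] → R[x_0]` -/
noncomputable def f (R : Type u) [CommRing R] :
    Polynomial R →+* MvPolynomial (ULift.{u} (Fin 1)) R :=
  (e R).symm.toRingEquiv.toRingHom

theorem f_C (R : Type u) [CommRing R] : (f R).comp Polynomial.C = MvPolynomial.C := by
  ext r : 1
  exact (e R).symm.commutes r

theorem isLine_C (R : Type u) [CommRing R] :
    Line.IsLine (Spec.map (CommRingCat.ofHom (Polynomial.C : R →+* Polynomial R))) := by
  have h0 : IsIso (CommRingCat.ofHom (f R)) :=
    (RingEquiv.toCommRingCatIso (e R).symm.toRingEquiv).isIso_hom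
  have h1 : IsIso (Spec.map (CommRingCat.ofHom (f R))) := by infer_instance
  refine ⟨inv (Spec.map (CommRingCat.ofHom (f R))) ≫
    (AffineSpace.SpecIso (ULift.{u} (Fin 1)) (CommRingCat.of R)).inv, inferInstance, ?_⟩
  rw [Category.assoc, IsIso.inv_comp_eq, ← Spec.map_comp, ← CommRingCat.ofHom_comp, f_C]
  exact AffineSpace.SpecIso_inv_over _

theorem lineAcyc : Hyp.LineAcyc.{u} := by
  intro R _ n hn F hF
  refine LineAff.acyc_line (isLine_C R) ?_ F hF
  have := hn.map (Scheme.ΓSpecIso (CommRingCat.of R)).inv.hom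
  rwa [map_natCast] at this

end Groth.Agent.Sga4h.H929.HP.Line
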