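import Groth.Agent.S0001
import Groth.Agent.Sga4h.H929.Hyp

/-!
# Proper base change, from `S0001`
-/

set_option autoImplicit false
universe u

open CategoryTheory CategoryTheory.Limits AlgebraicGeometry Opposite

namespace Groth.Agent.Sga4h.H929.HP.Proper

theorem properBC : Hyp.ProperBC.{u} := by
  intro X S X' S' f _ g f' g' H F hF q
  exact (Groth.Agent.S0001.result X S X' S' f g f' g' H F hF).1 q

end Groth.Agent.Sga4h.H929.HP.Proper
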