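import Groth.Agent.S0672
import Groth.Agent.Sga4h.H929.Hyp

/-!
# Smooth base change for one smooth morphism, from `S0672`
-/

set_option autoImplicit false
universe u

open CategoryTheory CategoryTheory.Limits AlgebraicGeometry Opposite

namespace Groth.Agent.Sga4h.H929.HP.Smooth

theorem smoothBC : Hyp.SmoothBC.{u} := by
  intro X S X' S' f _ _ g hg f' g' H F hF q
  let D : (PUnit.{u + 1})ᵒᵖ ⥤ Over S := (Functor.const _).obj (Over.mk g)
  let c : Cone (D ⋙ Over.forget S) :=
    { pt := S'
      π := { app := fun _ => 𝟙 S'
             naturality := fun _ _ _ => by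
               simp [D] } }
  have hc : IsLimit c :=
    { lift := fun s => s.π.app (op PUnit.unit)
      fac := fun s j => by
        obtain ⟨⟨⟩⟩ := j
        exact Category.comp_id _
      uniq := fun s m h => by
        have := h (op PUnit.unit)
        exact (Category.comp_id _).symm.trans this }
  exact (Groth.Agent.S0672.result D (fun _ => hg)
    (fun _ _ h => inferInstanceAs (IsAffineHom (𝟙 S'))) c hc g
    (fun _ => Category.id_comp _) f f' g' H F hF q).1

end Groth.Agent.Sga4h.H929.HP.Smooth
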